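import Cfsg.Agent.H27.U6Mult.Runs
import Cfsg.Agent.H27.U6Mult.Point
import Cfsg.Agent.H27.Fi22U6.Map
import Cfsg.Prelude.Def_KGroupFacts

/-!
The kernel of a stem extension of `PSU 6 F 2` is an image of `3 × 2 × 2`.
-/

set_option autoImplicit false
set_option maxRecDepth 100000

namespace Cfsg.Agent.H27.U6Mult

open Cfsg.Agent.H93 Cfsg.Agent.H45 Cfsg.Agent.H27.Fi22U6

variable {F : Type} [Field F] [Fintype F] (hF : Fintype.card F = 4)

/-- A generator. -/
noncomputable def pgen (j : ℕ) : Cfsg.PSU 6 F 2 := ptv hF (gp hF j)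

/-- A lift of a representative. -/
noncomputable def repSU (i : ℕ) : ↥(Cfsg.SU 6 F 2) :=
  ((word i).map fun j => tv hF (gp hF j)).prod

/-- The vector of a point. -/
noncomputable def qv (i : ℕ) : Vec F := bvec (om hF) (pvec i)

include hF

theorem rep_mk (w : List ℕ) :
    (QuotientGroup.mk ((w.map fun j => tv hF (gp hF j)).prod) : Cfsg.PSU 6 F 2) =
      (w.map (pgen hF)).prod := by
  induction w with
  | nil => simp
  | cons a w ih => rw [List.map_cons, List.prod_cons, QuotientGroup.mk_mul, ih]; rfl

theorem gp_iso {j : ℕ} (hj : j < 8) : hb (gp hF j) (gp hF j) = 0 := (pv_pt hF (genPt_lt hj)).2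

theorem qv_zero : qv hF 0 = e6 := by
  rw [qv, (eq6_iff _ _).mp first_eq]
  funext i
  fin_cases i <;> simp [bvec, bval, e6]

theorem move_spec {j i : ℕ} (hj : j < 8) (hi : i < 672) :
    nx j i < 672 ∧ ∃ s : F, s ≠ 0 ∧ act (tv hF (gp hF j)) (qv hF i) = s • qv hF (nx j i) := by
  have h := List.all_eq_true.1 (move_ok hj) i (List.mem_range.2 hi)
  simp only [moveOK, Bool.and_eq_true, decide_eq_true_eq, eq6_iff] at h
  obtain ⟨⟨h1, h2⟩, h3⟩ := h
  refine ⟨h1, _, sc_ne hF (Nat.mod_lt _ (by norm_num)) h2, ?_⟩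
  rw [tv_act hF (gp_iso hF hj), qv, qv, ← bvec_scale hF, ← h3,
    show gp hF j = bvec (om hF) (gv j) from rfl, ← bstep_spec hF (om_spec hF).2.2]

omit [Field F] [Fintype F] hF in
theorem tree_spec {i : ℕ} (hi : i < 672) (h0 : i ≠ 0) :
    trPar i < i ∧ trGen i < 8 ∧ nx (trGen i) (trPar i) = i := by
  have h := List.all_eq_true.1 tree_ok i (List.mem_range.2 hi)
  simpa [treeOK, h0, and_assoc] using h

omit [Field F] [Fintype F] hF in
theorem wordF_stable : ∀ i, i < 672 → ∀ f, i ≤ f → wordF f i = word i := by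
  intro i
  induction i using Nat.strong_induction_on with
  | _ i ih =>
    intro hi f hf
    rcases Nat.eq_zero_or_pos i with rfl | hpos
    · cases f <;> simp [word, wordF]
    obtain ⟨f', rfl⟩ := Nat.exists_eq_add_of_le' (show 1 ≤ f by omega)
    obtain ⟨h1, -, -⟩ := tree_spec hi (by omega)
    obtain ⟨i', hi'⟩ := Nat.exists_eq_add_of_le' (show 1 ≤ i by omega)
    have e1 := ih (trPar i) h1 (by omega) f' (by omega)
    have e2 := ih (trPar i) h1 (by omega) i' (by omega)
    show wordF (f' + 1) i = wordF i i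
    conv_rhs => arg 1; rw [hi']
    rw [wordF, wordF, e1, e2]

omit [Field F] [Fintype F] hF in
theorem word_succ {i : ℕ} (hi : i < 672) (h0 : i ≠ 0) :
    word i = trGen i :: word (trPar i) := by
  obtain ⟨h1, -, -⟩ := tree_spec hi h0
  obtain ⟨i', hi'⟩ := Nat.exists_eq_add_of_le' (show 1 ≤ i by omega)
  show wordF i i = _
  conv_lhs => arg 1; rw [hi']
  rw [wordF, if_neg h0, wordF_stable _ (by omega) i' (by omega)]

omit [Field F] [Fintype F] hF in
theorem word_lt : ∀ i, i < 672 → ∀ l ∈ word i, l < 8 := by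
  intro i
  induction i using Nat.strong_induction_on with
  | _ i ih =>
    intro hi l hl
    rcases Nat.eq_zero_or_pos i with rfl | hpos
    · simp [word, wordF] at hl
    obtain ⟨h1, h2, -⟩ := tree_spec hi (by omega)
    rw [word_succ hi (by omega), List.mem_cons] at hl
    rcases hl with rfl | hl
    · exact h2
    · exact ih _ h1 (by omega) l hl

theorem rep_spec : ∀ i, i < 672 → ∃ s : F, s ≠ 0 ∧ act (repSU hF i) (qv hF 0) = s • qv hF i := by
  intro i
  induction i using Nat.strong_induction_on with
  | _ i ih =>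
    intro hi
    rcases Nat.eq_zero_or_pos i with rfl | hpos
    · exact ⟨1, one_ne_zero, by simp [repSU, word, wordF, act_one]⟩
    obtain ⟨h1, h2, h3⟩ := tree_spec hi (by omega)
    obtain ⟨s, hs, e⟩ := ih _ h1 (by omega)
    obtain ⟨-, s', hs', e'⟩ := move_spec hF h2 (i := trPar i) (by omega)
    refine ⟨s * s', mul_ne_zero hs hs', ?_⟩
    rw [repSU, word_succ hi (by omega), List.map_cons, List.prod_cons, act_mul, ← repSU, e,
      act_smul, e', h3, smul_smul]

theorem mem_ptStab_of {g : ↥(Cfsg.SU 6 F 2)} {s : F} (hs : s ≠ 0)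
    (h : act g (qv hF 0) = s • qv hF 0) :
    (QuotientGroup.mk g : Cfsg.PSU 6 F 2) ∈ ptStab (F := F) := by
  rw [qv_zero] at h
  exact ⟨g, ⟨s, hs, h⟩, rfl⟩

theorem step_spec {j i : ℕ} (hj : j < 8) (hi : i < 672) :
    ((word (nx j i)).map (pgen hF)).prod⁻¹ * pgen hF j * ((word i).map (pgen hF)).prod ∈
      ptStab (F := F) := by
  obtain ⟨hlt, s, hs, e⟩ := move_spec hF hj hi
  obtain ⟨a, ha, ea⟩ := rep_spec hF i hi
  obtain ⟨b, hb', eb⟩ := rep_spec hF _ hlt
  rw [← rep_mk, ← rep_mk, pgen, ptv, ← QuotientGroup.mk_inv, ← QuotientGroup.mk_mul,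
    ← QuotientGroup.mk_mul]
  refine mem_ptStab_of hF (s := a * s * b⁻¹) (mul_ne_zero (mul_ne_zero ha hs) (inv_ne_zero hb')) ?_
  have hinv : act (repSU hF (nx j i))⁻¹ (qv hF (nx j i)) = b⁻¹ • qv hF 0 := by
    have h := act_inv_left (repSU hF (nx j i)) (qv hF 0)
    rw [eb, act_smul] at h
    rw [← h, smul_smul, inv_mul_cancel₀ hb', one_smul]
  show act ((repSU hF (nx j i))⁻¹ * tv hF (gp hF j) * repSU hF i) (qv hF 0) = _
  rw [act_mul, act_mul, ea, act_smul, e, act_smul, act_smul, hinv, smul_smul, smul_smul, mul_assoc]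

theorem gen_top : Subgroup.closure {x : Cfsg.PSU 6 F 2 | ∃ j, j < 8 ∧ x = pgen hF j} = ⊤ := by
  set S := Subgroup.closure {x : Cfsg.PSU 6 F 2 | ∃ j, j < 8 ∧ x = pgen hF j}
  have hk : ∀ k, k < 693 → pt hF k ∈ S := by
    intro k
    induction k using Nat.strong_induction_on with
    | _ k ih =>
      intro hk
      have h := List.all_eq_true.1 par_ok k (List.mem_range.2 hk)
      unfold parOK at h
      split_ifs at h with hp
      · simp only [Bool.and_eq_true, decide_eq_true_eq, Nat.beq_eq] at h
        have hj : cget parTab k % 8 < 8 := Nat.mod_lt _ (by norm_num)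
        have e := (nxt_spec hF hj (h.1.trans hk)).2.2
        rw [h.2] at e
        rw [← e]
        have hg := Subgroup.subset_closure (k := {x : Cfsg.PSU 6 F 2 | ∃ j, j < 8 ∧ x = pgen hF j})
          ⟨_, hj, rfl⟩
        exact mul_mem (mul_mem hg (ih _ h.1 (h.1.trans hk))) hg
      · simp only [Bool.and_eq_true, decide_eq_true_eq, Nat.beq_eq] at h
        refine Subgroup.subset_closure ⟨_, h.1, ?_⟩
        rw [pgen, gp, h.2]
        rfl
  rw [eq_top_iff, ← closure_pt hF, Subgroup.closure_le]
  rintro _ ⟨v, hv, rfl⟩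
  obtain ⟨k, hk', e⟩ := pt_all hF hv
  rw [e]
  exact hk k hk'

theorem sWalk_spec : ∀ w : List ℕ, (∀ l ∈ w, l < 8) → ∀ k, k < 693 → sWalk w k < 693 ∧
    (w.map (pgen hF)).prod * pt hF k = pt hF (sWalk w k) * (w.map (pgen hF)).prod
  | [], _, k, hk => ⟨hk, by simp [sWalk]⟩
  | a :: w, hw, k, hk => by
      obtain ⟨h1, h2⟩ := sWalk_spec w (fun l hl => hw l (List.mem_cons_of_mem a hl)) k hk
      obtain ⟨h3, -, h4⟩ := nxt_spec hF (hw a List.mem_cons_self) h1
      refine ⟨h3, ?_⟩
      rw [List.map_cons, List.prod_cons, mul_assoc, h2, sWalk, ← h4, pgen]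
      set a' := ptv hF (gp hF a)
      have ha : a' * a' = 1 := ptv_mul_self hF _
      simp only [mul_assoc]
      rw [← mul_assoc a' a', ha, one_mul]

theorem word_one {w : List ℕ} (hw : ∀ l ∈ w, l < 8)
    (hfix : ∀ k, k < 693 → sWalk w k = k) : (w.map (pgen hF)).prod = 1 := by
  set P := (w.map (pgen hF)).prod
  have hc : P ∈ Subgroup.center (Cfsg.PSU 6 F 2) := by
    rw [Subgroup.mem_center_iff]
    intro g
    have hle : Subgroup.closure {y : Cfsg.PSU 6 F 2 | ∃ v, IsPt v ∧ y = ptv hF v} ≤
        Subgroup.centralizer {P} := by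
      rw [Subgroup.closure_le]
      rintro _ ⟨v, hv, rfl⟩
      obtain ⟨k, hk, e⟩ := pt_all hF hv
      rw [e]
      obtain ⟨-, h⟩ := sWalk_spec hF w hw k hk
      rw [hfix k hk] at h
      exact Subgroup.mem_centralizer_singleton_iff.mpr h.symm
    rw [closure_pt hF] at hle
    exact Subgroup.mem_centralizer_singleton_iff.mp (hle (Subgroup.mem_top g))
  rwa [(psu_six_center hF).2, Subgroup.mem_bot] at hc

/-- The cosets of the stabiliser. -/
noncomputable def psuWalk : Walk (Cfsg.PSU 6 F 2) (ptStab (F := F)) where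
  g := pgen hF
  ng := 8
  n := 672
  next := nx
  word := word
  fix j := fixTab.getD j 0
  word_zero := rfl
  word_lt := word_lt
  next_lt _ _ hj hi := (move_spec hF hj hi).1
  n_pos := by norm_num
  step _ _ hj hi := step_spec hF hj hi
  fix_spec j hj := by
    have h := List.all_eq_true.1 fix_ok j (List.mem_range.2 hj)
    simpa using h
  zero_unique i hi hmem := by
    rw [← rep_mk] at hmem
    obtain ⟨g, ⟨c, hc, hg⟩, he⟩ := hmem
    rw [QuotientGroup.mk'_apply, QuotientGroup.eq] at he
    change g⁻¹ * repSU hF i ∈ _ at he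
    obtain ⟨a, ha, hz⟩ := central_scalar hF he
    obtain ⟨s, hs, es⟩ := rep_spec hF i hi
    change act (repSU hF i) (qv hF 0) = s • qv hF i at es
    have e1 : act (repSU hF i) (qv hF 0) = (a * c) • qv hF 0 := by
      have h1 : repSU hF i = g * (g⁻¹ * repSU hF i) := (mul_inv_cancel_left _ _).symm
      rw [h1, act_mul, hz, act_smul, qv_zero, hg, smul_smul]
    have e2 : qv hF i = (s⁻¹ * (a * c)) • qv hF 0 := by
      rw [← smul_smul, ← e1, es, smul_smul, inv_mul_cancel₀ hs, one_smul]
    obtain ⟨d, hd⟩ := bval_surj hF (s⁻¹ * (a * c))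
    have hd0 : s⁻¹ * (a * c) ≠ 0 := mul_ne_zero (inv_ne_zero hs) (mul_ne_zero ha hc)
    rw [← hd, qv, qv, ← bvec_scale hF] at e2
    have e3 := bvec_inj hF e2
    by_contra h0
    have h := List.all_eq_true.1 first_ok i (List.mem_range.2 hi)
    simp only [notFirst, h0, decide_false, Bool.false_or, Bool.and_eq_true, Bool.not_eq_true',
      ← Bool.not_eq_true, eq6_iff] at h
    obtain ⟨⟨h1, h2⟩, h3⟩ := h
    obtain ⟨d1, d2⟩ := d
    cases d1 <;> cases d2
    · exact hd0 (by rw [← hd]; simp [bval])
    · exact h2 e3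
    · exact h1 e3
    · exact h3 e3
  gen := gen_top hF

section Values

variable {Γ : Type} [Group Γ] {σ : Γ →* Cfsg.PSU 6 F 2} (S : Split σ (ptStab (F := F)))

open Classical in
/-- The values numbered as in the certificate, in an additive group. -/
noncomputable def value (u : ℕ) : Additive σ.ker :=
  if u < 5376 then Additive.ofMul ((psuWalk hF).val S (u / 672) (u % 672))
  else Additive.ofMul ((psuWalk hF).rval S (relList.getD (u - 5376) []))

include S

omit [Field F] [Fintype F] hF S in
theorem var_eq (j i : ℕ) : cert.var j i = 672 * j + i := rfl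

omit [Fintype F] hF in
theorem terms_snd (w : List ℕ) (i : ℕ) (h : Fintype F) (hF : @Fintype.card F h = 4) :
    (cert.terms w i).2 = (psuWalk hF).walk w i := by
  induction w with
  | nil => rfl
  | cons a w ih =>
    rw [Cert.terms, Walk.walk]
    rw [← ih]
    rfl

theorem terms_sum : ∀ (w : List ℕ), (∀ l ∈ w, l < 8) → ∀ i, i < 672 →
    ((cert.terms w i).1.map (value hF S)).sum = Additive.ofMul ((psuWalk hF).vals S w i)
  | [], _, _, _ => by simp [Cert.terms, Walk.vals]
  | a :: w, hw, i, hi => by
      have hw' : ∀ l ∈ w, l < 8 := fun l hl => hw l (List.mem_cons_of_mem a hl)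
      have ih := terms_sum w hw' i hi
      have hp := (psuWalk hF).walk_lt w hw' i hi
      have hp' : (psuWalk hF).walk w i < 672 := hp
      have hsnd := terms_snd S w i _ hF
      have ha := hw a List.mem_cons_self
      rw [Cert.terms]
      show ((cert.var a (cert.terms w i).2 :: (cert.terms w i).1).map (value hF S)).sum = _
      rw [List.map_cons, List.sum_cons, ih, hsnd, Walk.vals, ofMul_mul, var_eq, value,
        if_pos (by omega), show (672 * a + (psuWalk hF).walk w i) / 672 = a by omega,
        show (672 * a + (psuWalk hF).walk w i) % 672 = (psuWalk hF).walk w i by omega]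

/-- The kernel is commutative. -/
@[reducible] noncomputable def kerComm : CommGroup σ.ker :=
  { (inferInstance : Group σ.ker) with
    mul_comm := fun a b => Subtype.ext (Subgroup.mem_center_iff.1 (S.central b.2) a.1) }

theorem valid : @Cert.Valid cert (Additive σ.ker) (@Additive.addCommGroup _ (kerComm S))
    (value hF S) := by
  letI := kerComm S
  refine ⟨fun k i hk hi hcl => ?_, fun u => ?_, bias_mask, fun s hs => ?_⟩
  · have hk' : k < relList.length := hk
    have hmem : relList.getD k [] ∈ relList := by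
      rw [List.getD_eq_getElem _ _ hk']; exact List.getElem_mem hk'
    have hlt : ∀ l ∈ relList.getD k [], l < 8 := by
      have := List.all_eq_true.1 rel_lt _ hmem
      simpa using this
    have hone := word_one hF hlt (by
      have := List.all_eq_true.1 rel_one _ hmem
      simpa using this)
    have hcl' : (psuWalk hF).walk (relList.getD k []) i = i := by
      rw [← terms_snd S]; exact hcl
    show ((cert.terms (relList.getD k []) i).1.map (value hF S)).sum = _
    rw [terms_sum hF S _ hlt i hi, (psuWalk hF).vals_relation S hlt hone hi hcl', value,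
      if_neg (by unfold Cert.cvar; show ¬ 672 * 8 + k < 5376; omega)]
    unfold Cert.cvar
    show _ = Additive.ofMul ((psuWalk hF).rval S (relList.getD (672 * 8 + k - 5376) []))
    rw [show 672 * 8 + k - 5376 = k by omega]
  · by_cases hu : u < 6048
    · have h := List.all_eq_true.1 tab_mask u (List.mem_range.2 hu)
      show vtab u &&& mask 19 = vtab u
      simpa using h
    · show vtab u &&& mask 19 = vtab u
      have h9 : 9 ≤ u / 672 := by omega
      have hz : valTab.getD (u / 672) 0 = 0 :=
        List.getD_eq_default _ _ (le_trans (le_of_eq (by decide +kernel : valTab.length = 9)) h9)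
      unfold vtab
      rw [hz]
      simp
  · have h := List.all_eq_true.1 digits_ok s (List.mem_range.2 hs)
    simp only [Bool.and_eq_true, decide_eq_true_eq] at h
    exact ⟨h.1.1.1, h.1.1.2, h.1.2⟩

end Values

/-- The upper bound. -/
theorem exists_surjection {Γ : Type} [Group Γ] [Finite Γ] (σ : Γ →* Cfsg.PSU 6 F 2)
    (hσ : Cfsg.IsStemExtension σ) :
    ∃ f : Multiplicative (ZMod 3 × ZMod 2 × ZMod 2) →* σ.ker, Function.Surjective f := by
  have S := split_stab hF hσ.1 hσ.2.1
  letI := kerComm S
  have V : cert.Valid (value hF S) := valid hF S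
  set X := value hF S with hX
  -- the values at the start
  have hinit : ∀ l : List ℕ, (∀ u ∈ l, initOK u = true) → ∀ K, cert.Good X K →
      cert.Good X (l.foldl (fun K u => K ||| (1 <<< u)) K) := by
    intro l
    induction l with
    | nil => intro _ K hK; exact hK
    | cons u l ih =>
      intro hl K hK
      refine ih (fun x hx => hl x (List.mem_cons_of_mem u hx)) _ ?_
      intro v hv
      rw [Nat.testBit_or, Bool.or_eq_true] at hv
      rcases hv with hv | hv
      · exact hK v hv
      rw [Nat.one_shiftLeft, Nat.testBit_two_pow, decide_eq_true_eq] at hv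
      subst hv
      have h := hl u List.mem_cons_self
      have hbias : cert.comb X (vec (bias 19)) = 0 := by
        refine Finset.sum_eq_zero fun s hs => ?_
        have h := List.all_eq_true.1 digits_ok s (List.mem_range.2 (Finset.mem_range.mp hs))
        simp only [Bool.and_eq_true, decide_eq_true_eq] at h
        rw [vec, h.1.1.1]
        simp
      simp only [initOK, Bool.or_eq_true, Bool.and_eq_true, decide_eq_true_eq, List.any_eq_true,
        List.mem_range] at h
      rcases h with (⟨⟨⟨⟨hu, h1⟩, h2⟩, h3⟩, h4⟩ | ⟨⟨hu, h1⟩, h4⟩) | ⟨s, hs, h1, h2⟩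
      · show X u = cert.comb X (vec (vtab u))
        rw [h4, hbias, hX, value, if_pos hu]
        have hn : nx (u / 672) (u % 672) < 672 :=
          (move_spec hF (by omega) (Nat.mod_lt _ (by norm_num))).1
        have hw := word_succ hn h3
        rw [h1, h2] at hw
        rw [(psuWalk hF).val_tree S hw]
        rfl
      · show X u = cert.comb X (vec (vtab u))
        rw [h4, hbias, hX, value, if_pos hu, h1]
        rw [show fixTab.getD (u / 672) 0 = (psuWalk hF).fix (u / 672) from rfl,
          (psuWalk hF).val_fix S (show u / 672 < 8 by omega)]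
        rfl
      · show X u = cert.comb X (vec (vtab u))
        rw [h2, Cert.comb, Finset.sum_eq_single s]
        · have hd := List.all_eq_true.1 digits_ok s (List.mem_range.2 hs)
          simp only [Bool.and_eq_true, decide_eq_true_eq, List.all_eq_true, List.mem_range] at hd
          rw [vec, hd.2 s hs, if_pos rfl, show cert.sym s = u from h1]
          simp
        · intro t ht hts
          have hd := List.all_eq_true.1 digits_ok t (List.mem_range.2 (Finset.mem_range.mp ht))
          simp only [Bool.and_eq_true, decide_eq_true_eq, List.all_eq_true, List.mem_range] at hd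
          rw [vec, hd.2 s hs, if_neg hts]
          simp
        · intro hn; exact absurd (Finset.mem_range.mpr hs) hn
  have g0 : cert.Good X known0 := by
    rw [← init_known]
    exact hinit _ (List.all_eq_true.1 init_ok) 0 (fun u hu => by simp at hu)
  have g5 := Cert.runK_good V (Cert.runK_good V (Cert.runK_good V (Cert.runK_good V
    (Cert.runK_good V g0 run0) run1) run2) run3) run4
  -- the combinations
  have hcomb : ∀ a, a < 22 → cert.comb X (target a) = 0 := fun a ha =>
    Cert.combOK_sound V g5 (List.all_eq_true.1 comb_ok a (List.mem_range.2 ha))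
  let G3 : Fin 3 → Additive σ.ker := fun r => cert.comb X fun s => (genVec.getD r.val []).getD s 0
  have scale : ∀ (c : ℤ) (v : ℕ → ℤ), cert.comb X (fun s => c * v s) = c • cert.comb X v := by
    intro c v
    simp only [Cert.comb, Finset.smul_sum, mul_smul]
  have addc : ∀ v w : ℕ → ℤ, cert.comb X (fun s => v s + w s) = cert.comb X v + cert.comb X w := by
    intro v w
    simp only [Cert.comb, add_smul, Finset.sum_add_distrib]
  have subc : ∀ v w : ℕ → ℤ, cert.comb X (fun s => v s - w s) = cert.comb X v - cert.comb X w := by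
    intro v w
    simp only [Cert.comb, sub_smul, Finset.sum_sub_distrib]
  have hord : ∀ r : Fin 3, (([2, 2, 3] : List ℤ).getD r.val 0) • G3 r = 0 := by
    intro r
    have h := hcomb r.val (by omega)
    rw [← scale, ← h]
    refine Cert.comb_congr fun s _ => ?_
    rw [target, if_pos r.isLt]
  have o0 : (2 : ℤ) • G3 0 = 0 := hord 0
  have o1 : (2 : ℤ) • G3 1 = 0 := hord 1
  have o2 : (3 : ℤ) • G3 2 = 0 := hord 2
  have hsym : ∀ s, s < 19 → ∃ a b c : ℕ, X (cert.sym s) = (a : ℤ) • G3 0 + (b : ℤ) • G3 1 + (c : ℤ) • G3 2 := by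
    intro s hs
    have hm : cert.m = 19 := rfl
    refine ⟨(coefList.getD s (0, 0, 0)).1, (coefList.getD s (0, 0, 0)).2.1,
      (coefList.getD s (0, 0, 0)).2.2, ?_⟩
    have h := hcomb (s + 3) (by omega)
    have e1 : cert.comb X (fun t => if t = s then 1 else 0) = X (cert.sym s) := by
      rw [Cert.comb, Finset.sum_eq_single s]
      · simp
      · intro t _ ht; simp [ht]
      · intro hn; exact absurd (Finset.mem_range.mpr hs) hn
    rw [← e1, ← scale, ← scale, ← scale, ← addc, ← addc, ← sub_eq_zero, ← subc, ← h]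
    refine Cert.comb_congr fun t _ => ?_
    rw [target, if_neg (show ¬ s + 3 < 3 by omega), Nat.add_sub_cancel]
    rfl
  let ψ : ZMod 3 × ZMod 2 × ZMod 2 →+ Additive σ.ker :=
    (ZMod.lift 3 ⟨zmultiplesHom _ (G3 2), by simpa using o2⟩).coprod
      ((ZMod.lift 2 ⟨zmultiplesHom _ (G3 0), by simpa using o0⟩).coprod
        (ZMod.lift 2 ⟨zmultiplesHom _ (G3 1), by simpa using o1⟩))
  have hrange : ∀ a b c : ℕ, (a : ℤ) • G3 0 + (b : ℤ) • G3 1 + (c : ℤ) • G3 2 ∈ ψ.range := by
    intro a b c
    refine ⟨((c : ℤ), (a : ℤ), (b : ℤ)), ?_⟩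
    simp only [ψ, AddMonoidHom.coprod_apply, ZMod.lift_coe, zmultiplesHom_apply]
    abel
  let f : Multiplicative (ZMod 3 × ZMod 2 × ZMod 2) →* σ.ker := AddMonoidHom.toMultiplicativeLeft ψ
  refine ⟨f, MonoidHom.range_eq_top.mp ?_⟩
  refine (psuWalk hF).ker_span S hσ.2.2 f.range fun j i hj hi => ?_
  have hj' : j < 8 := hj
  have hi' : i < 672 := hi
  have hu : 672 * j + i < 5376 := by omega
  have hk : known5.testBit (672 * j + i) = true := by
    have h := congrArg (fun N => Nat.testBit N (672 * j + i)) all_known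
    simp only [Nat.testBit_and, Nat.testBit_two_pow_sub_one, hu, decide_true, Bool.and_true] at h
    exact h
  have hv := g5 _ hk
  have hmem : X (672 * j + i) ∈ ψ.range := by
    rw [hv]
    refine AddSubgroup.sum_mem _ fun s hs => AddSubgroup.zsmul_mem _ ?_ _
    obtain ⟨a, b, c, e⟩ := hsym s (Finset.mem_range.mp hs)
    rw [e]
    exact hrange a b c
  obtain ⟨x, hx⟩ := hmem
  refine ⟨Multiplicative.ofAdd x, ?_⟩
  show (ψ x).toMul = _
  rw [hx, hX, value, if_pos hu, show (672 * j + i) / 672 = j by omega,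
    show (672 * j + i) % 672 = i by omega]
  rfl

end Cfsg.Agent.H27.U6Mult
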