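import Mathlib

/-!
Certificates for linear dependences among the values on the edges of a finite graph: every value is
a packed vector in a few symbols.
-/

set_option autoImplicit false

namespace Cfsg.Agent.H27.U6Mult

/-- A digit. -/
def dig (N s : ℕ) : ℕ := (N >>> (16 * s)) % 65536

/-- The mask of the allowed digits. -/
def mask : ℕ → ℕ
  | 0 => 0
  | m + 1 => mask m ||| (1023 <<< (16 * m))

/-- The zero vector. -/
def bias : ℕ → ℕ
  | 0 => 0
  | m + 1 => bias m ||| (512 <<< (16 * m))

/-- The entry of a vector. -/
def vec (N s : ℕ) : ℤ := (dig N s : ℤ) - 512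

theorem mod_le_of_sub {N M : ℕ} (h : N &&& M = N) (a : ℕ) : N % 2 ^ a ≤ M % 2 ^ a := by
  conv_lhs => rw [← h, Nat.and_mod_two_pow]
  exact Nat.and_le_right

theorem dig_le_of_sub {N M : ℕ} (h : N &&& M = N) (s : ℕ) : dig N s ≤ dig M s := by
  conv_lhs => rw [← h]
  unfold dig
  rw [Nat.shiftRight_and_distrib, show (65536 : ℕ) = 2 ^ 16 by norm_num, Nat.and_mod_two_pow]
  exact Nat.and_le_right

theorem dig_sum (M : ℕ) (l : List ℕ) (hl : ∀ N ∈ l, N &&& M = N) (s : ℕ)
    (hc : l.length * (M % 2 ^ (16 * s)) < 2 ^ (16 * s)) (hd : l.length * dig M s < 65536) :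
    dig l.sum s = (l.map fun N => dig N s).sum := by
  have key : ∀ l : List ℕ, (∀ N ∈ l, N &&& M = N) → l.length * (M % 2 ^ (16 * s)) < 2 ^ (16 * s) →
      l.sum % 2 ^ (16 * s) ≤ l.length * (M % 2 ^ (16 * s)) ∧
      l.sum / 2 ^ (16 * s) = (l.map fun N => N / 2 ^ (16 * s)).sum := by
    intro l hl
    induction l with
    | nil => intro _; simp
    | cons N l ih =>
      intro hc
      simp only [List.length_cons, add_one_mul] at hc
      obtain ⟨h1, h2⟩ := ih (fun x hx => hl x (List.mem_cons_of_mem N hx)) (by omega)
      have hN := mod_le_of_sub (hl N List.mem_cons_self) (16 * s)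
      have hpos : 0 < 2 ^ (16 * s) := Nat.two_pow_pos _
      have hlt : N % 2 ^ (16 * s) + l.sum % 2 ^ (16 * s) < 2 ^ (16 * s) := by omega
      rw [List.sum_cons, List.length_cons, add_one_mul]
      refine ⟨?_, ?_⟩
      · rw [Nat.add_mod, Nat.mod_eq_of_lt hlt]; omega
      · rw [List.map_cons, List.sum_cons, Nat.add_div hpos, if_neg (by omega), add_zero, h2]
  obtain ⟨-, h⟩ := key l hl hc
  have hs : ∀ l : List ℕ, (∀ N ∈ l, N &&& M = N) → l.length * dig M s < 65536 →
      (l.map fun N => N / 2 ^ (16 * s)).sum % 65536 = (l.map fun N => dig N s).sum ∧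
      (l.map fun N => dig N s).sum ≤ l.length * dig M s := by
    intro l hl
    induction l with
    | nil => intro _; simp
    | cons N l ih =>
      intro hd
      simp only [List.length_cons, add_one_mul] at hd
      obtain ⟨h1, h2⟩ := ih (fun x hx => hl x (List.mem_cons_of_mem N hx)) (by omega)
      have hN := dig_le_of_sub (hl N List.mem_cons_self) s
      have e : dig N s = N / 2 ^ (16 * s) % 65536 := by rw [dig, Nat.shiftRight_eq_div_pow]
      simp only [List.map_cons, List.sum_cons, List.length_cons, add_one_mul]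
      refine ⟨?_, by omega⟩
      rw [Nat.add_mod, ← e, h1, Nat.mod_eq_of_lt (by omega)]
  rw [dig, Nat.shiftRight_eq_div_pow, h]
  exact (hs l hl hd).1

/-- The data of a certificate. -/
structure Cert where
  /-- the number of generators -/
  ng : ℕ
  /-- the number of points -/
  n : ℕ
  /-- the moves -/
  next : ℕ → ℕ → ℕ
  /-- the relations -/
  rels : List (List ℕ)
  /-- the number of symbols -/
  m : ℕ
  /-- the vector of each value -/
  tab : ℕ → ℕ
  /-- the value of each symbol -/
  sym : ℕ → ℕ

namespace Cert

variable (C : Cert)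

/-- The number of a value. -/
def var (j i : ℕ) : ℕ := C.n * j + i

/-- The number of the value of a relation. -/
def cvar (k : ℕ) : ℕ := C.n * C.ng + k

/-- The values along a walk, with the end of the walk. -/
def terms : List ℕ → ℕ → List ℕ × ℕ
  | [], i => ([], i)
  | a :: w, i =>
    match terms w i with
    | (t, p) => (C.var a p :: t, C.next a p)

/-- The values of a relation at a point: the walk and the relation itself. -/
def eqn (k i : ℕ) : List ℕ × ℕ := C.terms (C.rels.getD k []) i

/-- A valid equation. -/
def eqnOK (k i : ℕ) (e : List ℕ × ℕ) : Bool :=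
  decide (k < C.rels.length) && decide (i < C.n) && decide (e.1.length ≤ 40) &&
    decide (0 < e.1.length) && decide (e.2 = i)

/-- One step: a new value from an equation. -/
def stepK (K code : ℕ) : Option ℕ :=
  let k := code % 64
  let i := code / 64 % 1024
  let p := code / 65536
  let e := C.eqn k i
  if C.eqnOK k i e &&
      decide ((e.1.map C.tab).sum = C.tab (C.cvar k) + (e.1.length - 1) * bias C.m) then
    if p = e.1.length then
      (if e.1.all fun u => K.testBit u then some (K ||| (1 <<< C.cvar k)) else none)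
    else if h : p < e.1.length then
      (if (e.1.eraseIdx p).all (fun u => K.testBit u) && K.testBit (C.cvar k) then
        some (K ||| (1 <<< e.1[p])) else none)
    else none
  else none

/-- All steps. -/
def runK : List ℕ → ℕ → Option ℕ
  | [], K => some K
  | c :: cs, K => match C.stepK K c with
    | some K' => runK cs K'
    | none => none

theorem runK_append {a b : List ℕ} {K K' K'' : ℕ} (ha : C.runK a K = some K')
    (hb : C.runK b K' = some K'') : C.runK (a ++ b) K = some K'' := by
  induction a generalizing K with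
  | nil => simp only [runK, Option.some.injEq] at ha; subst ha; exact hb
  | cons c cs ih =>
    simp only [List.cons_append, runK] at ha ⊢
    cases hc : C.stepK K c with
    | none => rw [hc] at ha; simp at ha
    | some K1 => rw [hc] at ha; simp only at ha ⊢; exact ih ha

/-- The vector of an equation. -/
def relVec (k i s : ℕ) : ℤ :=
  (((C.eqn k i).1.map fun u => vec (C.tab u) s).sum) - vec (C.tab (C.cvar k)) s

/-- The vector of a combination of equations. -/
def combVec (l : List (ℕ × ℤ)) (s : ℕ) : ℤ :=
  (l.map fun c => c.2 * C.relVec (c.1 % 64) (c.1 / 64) s).sum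

/-- A combination of equations with a given vector. -/
def combOK (K : ℕ) (l : List (ℕ × ℤ)) (target : ℕ → ℤ) : Bool :=
  (l.all fun c => C.eqnOK (c.1 % 64) (c.1 / 64) (C.eqn (c.1 % 64) (c.1 / 64)) &&
    ((C.eqn (c.1 % 64) (c.1 / 64)).1.all fun u => K.testBit u) &&
    K.testBit (C.cvar (c.1 % 64))) &&
  (List.range C.m).all fun s => decide (C.combVec l s = target s)

/-- What the values satisfy. -/
structure Valid {A : Type*} [AddCommGroup A] (X : ℕ → A) : Prop where
  rel : ∀ k i, k < C.rels.length → i < C.n → (C.eqn k i).2 = i →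
    ((C.eqn k i).1.map X).sum = X (C.cvar k)
  mask : ∀ u, C.tab u &&& Cfsg.Agent.H27.U6Mult.mask C.m = C.tab u
  bias : Cfsg.Agent.H27.U6Mult.bias C.m &&& Cfsg.Agent.H27.U6Mult.mask C.m =
    Cfsg.Agent.H27.U6Mult.bias C.m
  digits : ∀ s, s < C.m → dig (Cfsg.Agent.H27.U6Mult.bias C.m) s = 512 ∧
    40 * (Cfsg.Agent.H27.U6Mult.mask C.m % 2 ^ (16 * s)) < 2 ^ (16 * s) ∧
    40 * dig (Cfsg.Agent.H27.U6Mult.mask C.m) s < 65536

variable {A : Type*} [AddCommGroup A] (X : ℕ → A)

/-- The combination of the symbols with given coefficients. -/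
def comb (v : ℕ → ℤ) : A := ∑ s ∈ Finset.range C.m, v s • X (C.sym s)

/-- The known values agree with their vectors. -/
def Good (K : ℕ) : Prop := ∀ u, K.testBit u = true → X u = C.comb X (vec (C.tab u))

variable {C X}

theorem comb_list (l : List ℕ) (f : ℕ → ℕ → ℤ) :
    (l.map fun u => C.comb X (f u)).sum = C.comb X fun s => (l.map fun u => f u s).sum := by
  induction l with
  | nil => simp [comb]
  | cons a l ih =>
    rw [List.map_cons, List.sum_cons, ih]
    simp only [comb, List.map_cons, List.sum_cons, add_smul, Finset.sum_add_distrib]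

theorem comb_congr {v v' : ℕ → ℤ} (h : ∀ s, s < C.m → v s = v' s) : C.comb X v = C.comb X v' :=
  Finset.sum_congr rfl fun s hs => by rw [h s (Finset.mem_range.mp hs)]

theorem vec_sum (V : C.Valid X) {e : List ℕ} {c : ℕ} (he : e.length ≤ 40) (hpos : 0 < e.length)
    (h : (e.map C.tab).sum = C.tab c + (e.length - 1) * Cfsg.Agent.H27.U6Mult.bias C.m) {s : ℕ}
    (hs : s < C.m) : (e.map fun u => vec (C.tab u) s).sum = vec (C.tab c) s := by
  obtain ⟨hb, hc, hd⟩ := V.digits s hs
  set M := Cfsg.Agent.H27.U6Mult.mask C.m
  have h1 := dig_sum M (e.map C.tab) (fun N hN => by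
      obtain ⟨u, -, rfl⟩ := List.mem_map.mp hN; exact V.mask u) s
    (by rw [List.length_map]; exact lt_of_le_of_lt (Nat.mul_le_mul_right _ he) hc)
    (by rw [List.length_map]; exact lt_of_le_of_lt (Nat.mul_le_mul_right _ he) hd)
  have h2 := dig_sum M (C.tab c :: List.replicate (e.length - 1) (Cfsg.Agent.H27.U6Mult.bias C.m))
    (fun N hN => by
      rcases List.mem_cons.mp hN with rfl | hN
      · exact V.mask c
      · rw [List.eq_of_mem_replicate hN]; exact V.bias) s
    (by
      rw [List.length_cons, List.length_replicate]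
      exact lt_of_le_of_lt (Nat.mul_le_mul_right _ (by omega)) hc)
    (by
      rw [List.length_cons, List.length_replicate]
      exact lt_of_le_of_lt (Nat.mul_le_mul_right _ (by omega)) hd)
  rw [List.sum_cons, List.sum_replicate, smul_eq_mul, ← h, h1, List.map_map, List.map_cons,
    List.sum_cons, List.map_replicate, List.sum_replicate, hb, smul_eq_mul] at h2
  have h3 : (e.map fun u => vec (C.tab u) s).sum =
      (((e.map fun u => dig (C.tab u) s).sum : ℕ) : ℤ) - 512 * e.length := by
    clear h h1 h2 he hpos
    induction e with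
    | nil => simp
    | cons a e ih =>
      rw [List.map_cons, List.sum_cons, ih, List.map_cons, List.sum_cons, List.length_cons, vec]
      push_cast
      ring
  rw [h3, show (e.map fun u => dig (C.tab u) s).sum = dig (C.tab c) s + (e.length - 1) * 512 from h2,
    vec]
  push_cast [Nat.cast_sub (show 1 ≤ e.length from hpos)]
  ring

theorem stepK_good (V : C.Valid X) {K K' code : ℕ} (hK : C.Good X K)
    (h : C.stepK K code = some K') : C.Good X K' := by
  unfold stepK at h
  set k := code % 64
  set i := code / 64 % 1024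
  set p := code / 65536
  simp only at h
  split_ifs at h with h1 h2 h3 h4 h5
  all_goals
    simp only [Option.some.injEq] at h
    subst h
    simp only [eqnOK, Bool.and_eq_true, decide_eq_true_eq] at h1
    obtain ⟨⟨⟨⟨⟨hk, hi⟩, hl⟩, hpos⟩, hcl⟩, hsum⟩ := h1
    have hrel := V.rel k i hk hi hcl
    have hv : C.comb X (fun s => ((C.eqn k i).1.map fun u => vec (C.tab u) s).sum) =
        C.comb X (vec (C.tab (C.cvar k))) := comb_congr fun s hs => vec_sum V hl hpos hsum hs
    intro u hu
    rw [Nat.testBit_or, Bool.or_eq_true] at hu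
    rcases hu with hu | hu
    · exact hK u hu
    rw [Nat.one_shiftLeft, Nat.testBit_two_pow, decide_eq_true_eq] at hu
    subst hu
  · rw [← hrel, ← hv, ← comb_list]
    exact congrArg List.sum (List.map_congr_left fun u hu => hK u (List.all_eq_true.mp h3 u hu))
  · simp only [Bool.and_eq_true, List.all_eq_true] at h5
    have hp := List.getElem_cons_eraseIdx_perm h4
    have e1 := (hp.map X).sum_eq
    have e2 := (hp.map fun u => C.comb X (vec (C.tab u))).sum_eq
    rw [List.map_cons, List.sum_cons] at e1 e2
    have e3 : ((C.eqn k i).1.eraseIdx p |>.map X).sum =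
        (((C.eqn k i).1.eraseIdx p).map fun u => C.comb X (vec (C.tab u))).sum :=
      congrArg List.sum (List.map_congr_left fun u hu => hK u (h5.1 u hu))
    rw [comb_list (C.eqn k i).1, hv, ← hK _ h5.2, ← hrel, ← e1, e3] at e2
    exact (add_right_cancel e2).symm

theorem runK_good (V : C.Valid X) {l : List ℕ} {K K' : ℕ} (hK : C.Good X K)
    (h : C.runK l K = some K') : C.Good X K' := by
  induction l generalizing K with
  | nil => simp only [runK, Option.some.injEq] at h; exact h ▸ hK
  | cons c cs ih =>
    simp only [runK] at h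
    cases hc : C.stepK K c with
    | none => rw [hc] at h; simp at h
    | some K1 => rw [hc] at h; exact ih (stepK_good V hK hc) h

theorem combOK_sound (V : C.Valid X) {K : ℕ} (hK : C.Good X K) {l : List (ℕ × ℤ)}
    {target : ℕ → ℤ} (h : C.combOK K l target = true) : C.comb X target = 0 := by
  simp only [combOK, Bool.and_eq_true, List.all_eq_true, decide_eq_true_eq, List.mem_range] at h
  obtain ⟨h1, h2⟩ := h
  rw [← comb_congr h2]
  clear h2
  induction l with
  | nil => simp [combVec, comb]
  | cons c l ih =>
    obtain ⟨⟨hok, hall⟩, hc⟩ := h1 c List.mem_cons_self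
    simp only [eqnOK, Bool.and_eq_true, decide_eq_true_eq] at hok
    obtain ⟨⟨⟨⟨hk, hi⟩, -⟩, -⟩, hcl⟩ := hok
    have hr := V.rel _ _ hk hi hcl
    rw [List.map_congr_left fun u hu => hK u (hall u hu), comb_list, hK _ hc] at hr
    have e : C.comb X (C.relVec (c.1 % 64) (c.1 / 64)) = 0 := by
      unfold comb relVec at *
      simp only [sub_smul, Finset.sum_sub_distrib]
      exact sub_eq_zero.mpr hr
    have e2 := ih fun x hx => h1 x (List.mem_cons_of_mem c hx)
    unfold comb combVec at *
    simp only [List.map_cons, List.sum_cons, add_smul, Finset.sum_add_distrib, e2, add_zero,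
      mul_smul, ← Finset.smul_sum, e, smul_zero]

end Cert

end Cfsg.Agent.H27.U6Mult
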