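import Cfsg.Agent.H27.U6Mult.Data
import Cfsg.Agent.H27.U6Mult.Pack
import Cfsg.Agent.H27.Fi22U6.Check

/-!
The tables checked by evaluation.
-/

set_option autoImplicit false
set_option maxRecDepth 100000
set_option Elab.async false

namespace Cfsg.Agent.H27.U6Mult

open Cfsg.Agent.H93 Cfsg.Agent.H45 Cfsg.Agent.H27.Fi22U6

/-- The vector of a point. -/
def pvec (i : ℕ) : B6 := bDec (cget pTab i)

/-- The move with scalar. -/
def mv (j i : ℕ) : ℕ := cget (mvTab.getD j 0) i

/-- The move. -/
def nx (j i : ℕ) : ℕ := mv j i / 4

/-- The generator at the parent. -/
def trGen (i : ℕ) : ℕ := cget trTab i % 8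

/-- The parent. -/
def trPar (i : ℕ) : ℕ := cget trTab i / 8

/-- The word of a point, with fuel. -/
def wordF : ℕ → ℕ → List ℕ
  | 0, _ => []
  | f + 1, i => if i = 0 then [] else trGen i :: wordF f (trPar i)

/-- The word of a point. -/
def word (i : ℕ) : List ℕ := wordF i i

/-- The table of vectors. -/
def vtab (u : ℕ) : ℕ :=
  ((valTab.getD (u / 672) 0) >>> (304 * (u % 672))) &&& (2 ^ 304 - 1)

/-- The certificate. -/
def cert : Cert where
  ng := 8
  n := 672
  next := nx
  rels := relList
  m := 19
  tab := vtab
  sym s := symList.getD s 0

/-- Step check of one generator at one point. -/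
def moveOK (j i : ℕ) : Bool :=
  decide (nx j i < 672) && decide (mv j i % 4 ≠ 0) &&
    eq6 (bstep (gv j) (pvec i)) (bscale (sc (mv j i % 4)) (pvec (nx j i)))

/-- Tree check of one point. -/
def treeOK (i : ℕ) : Bool :=
  decide (i = 0) || (decide (trPar i < i) && decide (trGen i < 8) &&
    decide (nx (trGen i) (trPar i) = i))

/-- A point is not a multiple of the first. -/
def notFirst (i : ℕ) : Bool :=
  decide (i = 0) || (!eq6 (pvec i) (bscale (sc 1) (pvec 0)) && !eq6 (pvec i) (bscale (sc 2) (pvec 0))
    && !eq6 (pvec i) (bscale (sc 3) (pvec 0)))

theorem first_eq : eq6 (pvec 0) ((false, false), (false, false), (false, false), (false, false),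
    (false, false), (true, false)) = true := by decide +kernel

theorem move_ok_0 : (List.range 672).all (moveOK 0) = true := by decide +kernel

theorem move_ok_1 : (List.range 672).all (moveOK 1) = true := by decide +kernel

theorem move_ok_2 : (List.range 672).all (moveOK 2) = true := by decide +kernel

theorem move_ok_3 : (List.range 672).all (moveOK 3) = true := by decide +kernel

theorem move_ok_4 : (List.range 672).all (moveOK 4) = true := by decide +kernel

theorem move_ok_5 : (List.range 672).all (moveOK 5) = true := by decide +kernel

theorem move_ok_6 : (List.range 672).all (moveOK 6) = true := by decide +kernel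

theorem move_ok_7 : (List.range 672).all (moveOK 7) = true := by decide +kernel

theorem move_ok {j : ℕ} (hj : j < 8) : (List.range 672).all (moveOK j) = true := by
  interval_cases j
  exacts [move_ok_0, move_ok_1, move_ok_2, move_ok_3, move_ok_4, move_ok_5, move_ok_6, move_ok_7]

theorem tree_ok : (List.range 672).all treeOK = true := by decide +kernel

theorem first_ok : (List.range 672).all notFirst = true := by decide +kernel

theorem fix_ok : ((List.range 8).all fun j =>
    decide (fixTab.getD j 0 < 672) && decide (nx j (fixTab.getD j 0) = fixTab.getD j 0)) = true := by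
  decide +kernel

theorem rel_lt : (relList.all fun w => w.all fun l => decide (l < 8)) = true := by decide +kernel

/-- The image of one of the 693 singular points under a word. -/
def sWalk : List ℕ → ℕ → ℕ
  | [], k => k
  | a :: w, k => Fi22U6.nxt a (sWalk w k) / 4

theorem rel_one : (relList.all fun w =>
    (List.range 693).all fun k => decide (sWalk w k = k)) = true := by decide +kernel

/-- The edges known at the start are tree edges, fixed edges or symbols. -/
def initOK (u : ℕ) : Bool :=
  (decide (u < 5376) && decide (trPar (nx (u / 672) (u % 672)) = u % 672) &&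
      decide (trGen (nx (u / 672) (u % 672)) = u / 672) &&
      decide (nx (u / 672) (u % 672) ≠ 0) && decide (vtab u = bias 19)) ||
    (decide (u < 5376) && decide (u % 672 = fixTab.getD (u / 672) 0) && decide (vtab u = bias 19)) ||
    (List.range 19).any fun s => decide (symList.getD s 0 = u) &&
      decide (vtab u = bias 19 + (1 <<< (16 * s)))

theorem init_ok : initList.all initOK = true := by decide +kernel

theorem init_known : initList.foldl (fun K u => K ||| (1 <<< u)) 0 = known0 := by decide +kernel

theorem digits_ok : (List.range 19).all (fun s => decide (dig (bias 19) s = 512) &&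
    decide (40 * (mask 19 % 2 ^ (16 * s)) < 2 ^ (16 * s)) && decide (40 * dig (mask 19) s < 65536) &&
    (List.range 19).all fun t => decide (dig (bias 19 + (1 <<< (16 * t))) s =
      if s = t then 513 else 512)) = true := by decide +kernel

theorem bias_mask : bias 19 &&& mask 19 = bias 19 := by decide +kernel

theorem tab_mask : (List.range 6048).all (fun u => decide (vtab u &&& mask 19 = vtab u)) = true := by
  decide +kernel

theorem all_known : known5 &&& (2 ^ 5376 - 1) = 2 ^ 5376 - 1 := by decide +kernel

end Cfsg.Agent.H27.U6Mult
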