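import Cfsg.Agent.H27.U6Mult.Check

/-!
The steps of the certificate checked by evaluation.
-/

set_option autoImplicit false
set_option maxRecDepth 100000
set_option Elab.async false

namespace Cfsg.Agent.H27.U6Mult

theorem run0 : cert.runK steps0 known0 = some known1 := by decide +kernel

theorem run1 : cert.runK steps1 known1 = some known2 := by decide +kernel

theorem run2 : cert.runK steps2 known2 = some known3 := by decide +kernel

theorem run3 : cert.runK steps3 known3 = some known4 := by decide +kernel

theorem run4 : cert.runK steps4 known4 = some known5 := by decide +kernel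

/-- The target of a combination. -/
def target (a : ℕ) (s : ℕ) : ℤ :=
  if a < 3 then ([2, 2, 3] : List ℤ).getD a 0 * (genVec.getD a []).getD s 0
  else
    (if s = a - 3 then 1 else 0) -
      ((coefList.getD (a - 3) (0, 0, 0)).1 * (genVec.getD 0 []).getD s 0 +
       (coefList.getD (a - 3) (0, 0, 0)).2.1 * (genVec.getD 1 []).getD s 0 +
       (coefList.getD (a - 3) (0, 0, 0)).2.2 * (genVec.getD 2 []).getD s 0)

theorem comb_ok : (List.range 22).all (fun a =>
    cert.combOK known5 (combList.getD a []) (target a)) = true := by decide +kernel

end Cfsg.Agent.H27.U6Mult
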