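import Cfsg.Agent.H27.U6Mult.Bound
import Cfsg.Agent.Unitary.Center
import Cfsg.Agent.Unitary.Generation
import Cfsg.Agent.H50.StemPullback
import Cfsg.Agent.H74.SchurFree

/-!
A stem extension of `PSU 6 F 2` with kernel of order twelve: two copies of the double cover glued
along a diagonal outer automorphism, and the special unitary group.
-/

set_option autoImplicit false
set_option maxRecDepth 100000
set_option Elab.async false

namespace Cfsg.Agent.H27.U6Mult

open Cfsg.Agent.H93 Cfsg.Agent.H45 Cfsg.Agent.H27.Fi22U6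
open scoped Matrix commutatorElement

/-- The first word. -/
def wordA : List ℕ := [5, 2, 4, 3, 1, 5, 2, 4, 3, 1, 5, 2, 4, 3, 1]

/-- The second word. -/
def wordB : List ℕ := [7, 6, 0, 0, 3, 4, 5, 2, 4, 3, 1, 5, 2, 4, 3, 1, 5, 2, 4, 3, 1, 4, 3, 0, 0,
  6, 7, 5, 2, 4, 3, 1, 5, 2, 4, 3, 1, 5, 2, 4, 3, 1, 7, 6, 0, 0, 3, 4, 5, 2, 4, 3, 1, 5, 2, 4, 3,
  1, 5, 2, 4, 3, 1, 4, 3, 0, 0, 6, 7, 5, 2, 4, 3, 1, 5, 2, 4, 3, 1, 5, 2, 4, 3, 1, 7, 6, 0, 0, 3, 4]

/-- Conjugates carrying the twisted generators. -/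
def twistPairs : List (List ℕ × ℕ) := [([], 0), ([], 1), ([], 2), ([], 3), ([], 4),
  ([7, 5, 6, 3, 7, 4, 3], 2),
  ([6, 5, 1, 2, 0, 1, 5, 6, 3, 2, 1, 5, 4, 3, 2, 1], 0), ([6, 3, 2, 1, 5, 4, 3, 2, 1], 0)]

/-- The conjugating part. -/
def tu (j : ℕ) : List ℕ := (twistPairs.getD j ([], 0)).1

/-- The middle letter. -/
def tg (j : ℕ) : ℕ := (twistPairs.getD j ([], 0)).2

/-- The word of a twisted generator. -/
def tword (j : ℕ) : List ℕ := tu j ++ [tg j] ++ (tu j).reverse

/-- A word with twisted generators. -/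
def twist (w : List ℕ) : List ℕ := w.flatMap tword

/-- The letters of a commutator. -/
def comWord (a b : List ℕ) : List ℕ := flat a ++ flat b ++ (flat a).reverse ++ (flat b).reverse

theorem twist_ok : ((List.range 8).all fun j => (tu j).all (fun l => decide (l < 8)) &&
    decide (tg j < 8) &&
    (let k := sWalk (tu j) (genPt.getD (tg j) 0)
     let v := gv j
     (List.range 4).any fun s => decide (s ≠ 0) &&
       eq6 (bmul (false, true) v.1, v.2) (bscale (sc s) (bv k)))) = true := by decide +kernel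

theorem letters_ok : (wordA.all fun l => decide (l < 8)) = true ∧
    (wordB.all fun l => decide (l < 8)) = true := by decide +kernel

theorem commute_ok : ((List.range 8).all fun i => decide
    (sWalk (wordA ++ wordB) (genPt.getD i 0) = sWalk (wordB ++ wordA) (genPt.getD i 0))) = true := by
  decide +kernel

theorem com_fix : (comWord wordA wordB).all (fun l => decide (l < 9)) = true ∧
    walkT Fi22I3510.cols (comWord wordA wordB) 1 = 1 := by decide +kernel

theorem com_moved : (comWord (twist wordA) (twist wordB)).all (fun l => decide (l < 9)) = true ∧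
    walkT Fi22I3510.cols (comWord (twist wordA) (twist wordB)) 1 = 2 := by decide +kernel

theorem z_moved : walkT Fi22I3510.cols [0] 1 = 2 := by decide +kernel

variable {F : Type} [Field F] [Fintype F] (hF : Fintype.card F = 4)

/-! ### The diagonal automorphism -/

/-- The entries of the diagonal matrix. -/
def dcoef (c : F) (i : Fin 6) : F := if i = 0 then c else 1

/-- Diagonal action on vectors. -/
def dv (c : F) (x : Vec F) : Vec F := fun i => dcoef c i * x i

omit [Fintype F] in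
theorem dv_dv {c d : F} (h : c * d = 1) (x : Vec F) : dv c (dv d x) = x := by
  funext i
  by_cases hi : i = 0 <;> simp [dv, dcoef, hi, ← mul_assoc, h]

omit [Fintype F] in
theorem diag_mulVec (c : F) (x : Vec F) : Matrix.diagonal (dcoef c) *ᵥ x = dv c x :=
  funext fun i => Matrix.mulVec_diagonal _ _ _

omit [Fintype F] in
theorem dv_add (c : F) (x y : Vec F) : dv c (x + y) = dv c x + dv c y :=
  funext fun i => mul_add _ _ _

omit [Fintype F] in
theorem dv_smul (c a : F) (x : Vec F) : dv c (a • x) = a • dv c x := by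
  funext i
  simp [dv]
  ring

omit [Fintype F] in
theorem hb_dv {c : F} (hc : c ^ 3 = 1) (x y : Vec F) : hb (dv c x) (dv c y) = hb x y := by
  rw [hb_eq, hb_eq]
  refine Finset.sum_congr rfl fun i _ => ?_
  by_cases hi : i = 0
  · subst hi
    simp only [dv, dcoef, if_pos]
    linear_combination (x 0 * y 0 ^ 2) * hc
  · simp [dv, dcoef, hi]

omit [Fintype F] in
theorem dcoef_mul {c d : F} (h : c * d = 1) :
    Matrix.diagonal (dcoef c) * Matrix.diagonal (dcoef d) = 1 := by
  rw [Matrix.diagonal_mul_diagonal, ← Matrix.diagonal_one]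
  congr 1
  funext i
  by_cases hi : i = 0 <;> simp [dcoef, hi, h]

omit [Fintype F] in
theorem conj_det {c : F} (hc : c ^ 3 = 1) (g : Matrix.SpecialLinearGroup (Fin 6) F) :
    (Matrix.diagonal (dcoef c) * g.1 * Matrix.diagonal (dcoef (c ^ 2))).det = 1 := by
  rw [Matrix.det_mul, Matrix.det_mul, g.2, mul_one, ← Matrix.det_mul,
    dcoef_mul (by rw [← pow_succ', hc]), Matrix.det_one]

omit [Fintype F] in
theorem conj_act' (c : F) (g : ↥(Cfsg.SU 6 F 2)) (x : Vec F) :
    (Matrix.diagonal (dcoef c) * (g : Matrix.SpecialLinearGroup (Fin 6) F).1 *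
      Matrix.diagonal (dcoef (c ^ 2))) *ᵥ x = dv c (act g (dv (c ^ 2) x)) := by
  rw [← Matrix.mulVec_mulVec, ← Matrix.mulVec_mulVec, diag_mulVec, diag_mulVec]
  rfl

/-- The conjugate of an element by the diagonal matrix. -/
noncomputable def conjElt (c : F) (hc : c ^ 3 = 1) (g : ↥(Cfsg.SU 6 F 2)) : ↥(Cfsg.SU 6 F 2) :=
  ⟨⟨_, conj_det hc g.1⟩, fun x y => by
    show hb ((Matrix.diagonal (dcoef c) * (g : Matrix.SpecialLinearGroup (Fin 6) F).1 *
        Matrix.diagonal (dcoef (c ^ 2))) *ᵥ x) ((Matrix.diagonal (dcoef c) *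
        (g : Matrix.SpecialLinearGroup (Fin 6) F).1 * Matrix.diagonal (dcoef (c ^ 2))) *ᵥ y) = hb x y
    rw [conj_act', conj_act', hb_dv hc, act_hb, hb_dv (by rw [← pow_mul, pow_mul', hc, one_pow])]⟩

omit [Fintype F] in
theorem conjElt_act (c : F) (hc : c ^ 3 = 1) (g : ↥(Cfsg.SU 6 F 2)) (x : Vec F) :
    act (conjElt c hc g) x = dv c (act g (dv (c ^ 2) x)) :=
  conj_act' c g x

/-- The diagonal conjugation. -/
noncomputable def diagConj (c : F) (hc : c ^ 3 = 1) :
    ↥(Cfsg.SU 6 F 2) →* ↥(Cfsg.SU 6 F 2) :=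
  MonoidHom.mk' (conjElt c hc) fun g h => act_ext fun x => by
    rw [act_mul, conjElt_act, conjElt_act, conjElt_act,
      dv_dv (show c ^ 2 * c = 1 by rw [← pow_succ, hc]), act_mul]

omit [Fintype F] in
theorem diagConj_act (c : F) (hc : c ^ 3 = 1) (g : ↥(Cfsg.SU 6 F 2)) (x : Vec F) :
    act (diagConj c hc g) x = dv c (act g (dv (c ^ 2) x)) :=
  conjElt_act c hc g x

theorem diagConj_bij (c : F) (hc : c ^ 3 = 1) : Function.Bijective (diagConj c hc) := by
  have hinj : Function.Injective (diagConj c hc) := by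
    intro g h e
    refine act_ext fun x => ?_
    have h1 : c ^ 2 * c = 1 := by rw [← pow_succ, hc]
    have := congrArg (fun g => dv (c ^ 2) (act g (dv c x))) e
    simpa [diagConj_act, dv_dv h1] using this
  exact ⟨hinj, Finite.surjective_of_injective hinj⟩

include hF

theorem diagConj_tv {c : F} (hc : c ^ 3 = 1) {v : Vec F} (hv : hb v v = 0) :
    diagConj c hc (tv hF v) = tv hF (dv c v) := by
  have h1 : c * c ^ 2 = 1 := by rw [← pow_succ', hc]
  refine act_ext fun x => ?_
  rw [diagConj_act, tv_act hF hv, tv_act hF (by rw [hb_dv hc, hv]), dv_add, dv_smul, dv_dv h1]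
  congr 2
  conv_rhs => rw [← dv_dv h1 x, hb_dv hc]

/-- The multiplier of the twist. -/
noncomputable def cw3 : F := bval (om hF) (false, true)

theorem cw3_cube : cw3 hF ^ 3 = 1 :=
  pow_three hF (sc_ne hF (s := 2) (by norm_num) (by norm_num))

/-- The twist of the projective group. -/
noncomputable def sP : Cfsg.PSU 6 F 2 →* Cfsg.PSU 6 F 2 :=
  QuotientGroup.map (Subgroup.center ↥(Cfsg.SU 6 F 2)) (Subgroup.center ↥(Cfsg.SU 6 F 2))
    (diagConj (cw3 hF) (cw3_cube hF)) (by
      intro z hz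
      rw [Subgroup.mem_comap, Subgroup.mem_center_iff]
      intro g
      obtain ⟨g, rfl⟩ := (diagConj_bij (cw3 hF) (cw3_cube hF)).2 g
      rw [← map_mul, ← map_mul, Subgroup.mem_center_iff.mp hz g])

theorem sP_surj : Function.Surjective (sP hF) := by
  intro y
  obtain ⟨y, rfl⟩ := QuotientGroup.mk_surjective y
  obtain ⟨x, rfl⟩ := (diagConj_bij (cw3 hF) (cw3_cube hF)).2 y
  exact ⟨QuotientGroup.mk x, rfl⟩

theorem sP_pgen {j : ℕ} (hj : j < 8) : sP hF (pgen hF j) = ((tword j).map (pgen hF)).prod := by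
  have h := List.all_eq_true.1 twist_ok j (List.mem_range.2 hj)
  simp only [Bool.and_eq_true, decide_eq_true_eq, List.all_eq_true, List.any_eq_true,
    List.mem_range, eq6_iff] at h
  obtain ⟨⟨hu, hg⟩, s, hs, hs0, he⟩ := h
  have hp : hb (gp hF j) (gp hF j) = 0 := gp_iso hF hj
  rw [pgen, ptv, sP, QuotientGroup.map_mk, diagConj_tv hF _ hp]
  have hdv : dv (cw3 hF) (gp hF j) = bvec (om hF) (bmul (false, true) (gv j).1, (gv j).2) := by
    rw [show gp hF j = bvec (om hF) (gv j) from rfl, cw3]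
    obtain ⟨x0, x1, x2, x3, x4, x5⟩ := gv j
    funext i
    fin_cases i <;> simp [dv, dcoef, bvec, bval_mul hF (om_spec hF).2.2]
  have hk := genPt_lt hg
  obtain ⟨hlt, e⟩ := sWalk_spec hF (tu j) hu _ hk
  show ptv hF (dv (cw3 hF) (gp hF j)) = _
  rw [hdv, he, bvec_scale hF, ptv_smul hF (sc_ne hF hs hs0)]
  show pt hF (sWalk (tu j) (genPt.getD (tg j) 0)) = _
  have hrev : ∀ w : List ℕ, ((w.reverse).map (pgen hF)).prod = ((w.map (pgen hF)).prod)⁻¹ := by
    intro w
    induction w with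
    | nil => simp
    | cons a w ih =>
      simp only [List.reverse_cons, List.map_append, List.prod_append, List.map_cons,
        List.map_nil, List.prod_cons, List.prod_nil, mul_one, ih, mul_inv_rev]
      rw [inv_eq_of_mul_eq_one_right (a := pgen hF a) (b := pgen hF a) (ptv_mul_self hF _)]
  rw [tword, List.map_append, List.prod_append, List.map_append, List.prod_append, List.map_cons,
    List.map_nil, List.prod_cons, List.prod_nil, mul_one, hrev, eq_mul_inv_iff_mul_eq]
  exact e.symm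

omit [Fintype F] hF in
theorem tword_lt {j : ℕ} (hj : j < 8) : ∀ l ∈ tword j, l < 8 := by
  have h := List.all_eq_true.1 twist_ok j (List.mem_range.2 hj)
  simp only [Bool.and_eq_true, decide_eq_true_eq, List.all_eq_true] at h
  intro l hl
  simp only [tword, List.mem_append, List.mem_reverse, List.mem_singleton] at hl
  rcases hl with (hl | rfl) | hl
  exacts [h.1.1 l hl, h.1.2, h.1.1 l hl]

omit [Fintype F] hF in
theorem twist_lt {w : List ℕ} (hw : ∀ l ∈ w, l < 8) : ∀ l ∈ twist w, l < 8 := by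
  intro l hl
  obtain ⟨j, hj, hl⟩ := List.mem_flatMap.mp hl
  exact tword_lt (hw j hj) l hl

theorem sP_word {w : List ℕ} (hw : ∀ l ∈ w, l < 8) :
    sP hF ((w.map (pgen hF)).prod) = ((twist w).map (pgen hF)).prod := by
  induction w with
  | nil => simp [twist]
  | cons a w ih =>
    rw [List.map_cons, List.prod_cons, map_mul, sP_pgen hF (hw a List.mem_cons_self),
      ih fun l hl => hw l (List.mem_cons_of_mem a hl)]
    simp [twist]

/-! ### The double cover -/

theorem proj_word {w : List ℕ} (hw : ∀ l ∈ w, l < 8) :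
    proj hF ((w.map gH).prod) = (w.map (pgen hF)).prod := by
  induction w with
  | nil => simp
  | cons a w ih =>
    rw [List.map_cons, List.prod_cons, map_mul, proj_gH hF (hw a List.mem_cons_self),
      ih fun l hl => hw l (List.mem_cons_of_mem a hl)]
    rfl

omit [Fintype F] hF in
theorem com_eval {a b : List ℕ} (ha : ∀ l ∈ a, l < 8) (hb : ∀ l ∈ b, l < 8) :
    ((⁅(a.map gH).prod, (b.map gH).prod⁆ : H) : G) = evalW Fi22Pres.pres.e (comWord a b) := by
  rw [comWord, evalW_append, evalW_append, evalW_append, evalW_reverse, evalW_reverse,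
    eval_flat _ ha, eval_flat _ hb, commutatorElement_def]
  rfl

omit [Fintype F] hF in
theorem walk_eq {w v : List ℕ} (hw : ∀ l ∈ w, l < 9) (hv : ∀ l ∈ v, l < 9)
    (e : evalW Fi22Pres.pres.e w = evalW Fi22Pres.pres.e v) :
    walkT Fi22I3510.cols w 1 = walkT Fi22I3510.cols v 1 := by
  obtain ⟨φ, hA, -⟩ := Fi22Main.index_facts
  have := congrArg (fun g => (((φ g)⁻¹ ⟨1, by norm_num⟩ : Fin 3510) : ℕ)) e
  simp only [hA.evalW w hw, hA.evalW v hv] at this
  have h1 := sig_walk (permCheck_PT Fi22Main.perm_ok) w hw ⟨1, by norm_num⟩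
  have h2 := sig_walk (permCheck_PT Fi22Main.perm_ok) v hv ⟨1, by norm_num⟩
  exact h1.symm.trans (this.trans h2)

theorem commute_proj : Commute ((wordA.map (pgen hF)).prod) ((wordB.map (pgen hF)).prod) := by
  have ha : ∀ l ∈ wordA, l < 8 := by simpa using letters_ok.1
  have hb' : ∀ l ∈ wordB, l < 8 := by simpa using letters_ok.2
  have hab : ∀ l ∈ wordA ++ wordB, l < 8 := fun l hl =>
    (List.mem_append.mp hl).elim (ha l) (hb' l)
  have hba : ∀ l ∈ wordB ++ wordA, l < 8 := fun l hl =>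
    (List.mem_append.mp hl).elim (hb' l) (ha l)
  set P := ((wordA ++ wordB).map (pgen hF)).prod with hP
  set Q := ((wordB ++ wordA).map (pgen hF)).prod with hQ
  have hc : Q⁻¹ * P ∈ Subgroup.center (Cfsg.PSU 6 F 2) := by
    suffices hle : Subgroup.closure {x : Cfsg.PSU 6 F 2 | ∃ j, j < 8 ∧ x = pgen hF j} ≤
        Subgroup.centralizer {Q⁻¹ * P} by
      rw [gen_top hF] at hle
      exact Subgroup.mem_center_iff.mpr fun g =>
        Subgroup.mem_centralizer_singleton_iff.mp (hle (Subgroup.mem_top g))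
    rw [Subgroup.closure_le]
    rintro _ ⟨i, hi, rfl⟩
    refine Subgroup.mem_centralizer_singleton_iff.mpr ?_
    obtain ⟨-, e1⟩ := sWalk_spec hF _ hab _ (genPt_lt hi)
    obtain ⟨-, e2⟩ := sWalk_spec hF _ hba _ (genPt_lt hi)
    have hk := List.all_eq_true.1 commute_ok i (List.mem_range.2 hi)
    rw [decide_eq_true_eq] at hk
    rw [hk] at e1
    rw [← hP] at e1
    rw [← hQ] at e2
    show pgen hF i * (Q⁻¹ * P) = Q⁻¹ * P * pgen hF i
    rw [mul_assoc Q⁻¹, show pgen hF i = pt hF (genPt.getD i 0) from rfl, e1, ← mul_assoc,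
      ← mul_assoc, mul_left_inj, eq_inv_mul_iff_mul_eq, ← mul_assoc, e2, mul_inv_cancel_right]
  rw [(psu_six_center hF).2, Subgroup.mem_bot, inv_mul_eq_one, hP, hQ, List.map_append,
    List.map_append, List.prod_append, List.prod_append] at hc
  exact hc.symm

theorem exists_pair : ∃ A B A' B' : H, sP hF (proj hF A) = proj hF A' ∧
    sP hF (proj hF B) = proj hF B' ∧ ⁅A, B⁆ = 1 ∧ ⁅A', B'⁆ ≠ 1 := by
  have ha : ∀ l ∈ wordA, l < 8 := by simpa using letters_ok.1
  have hb' : ∀ l ∈ wordB, l < 8 := by simpa using letters_ok.2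
  refine ⟨(wordA.map gH).prod, (wordB.map gH).prod, ((twist wordA).map gH).prod,
    ((twist wordB).map gH).prod, ?_, ?_, ?_, ?_⟩
  · rw [proj_word hF ha, proj_word hF (twist_lt ha), sP_word hF ha]
  · rw [proj_word hF hb', proj_word hF (twist_lt hb'), sP_word hF hb']
  · set c := ⁅(wordA.map gH).prod, (wordB.map gH).prod⁆
    have hck : c ∈ (proj hF).ker := by
      rw [MonoidHom.mem_ker, map_commutatorElement, proj_word hF ha, proj_word hF hb',
        commutatorElement_eq_one_iff_commute]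
      exact commute_proj hF
    let z : H := ⟨evalW Fi22Pres.pres.e [0], Subgroup.subset_closure ⟨[0], by decide, rfl⟩⟩
    have hz : z ∈ (proj hF).ker :=
      proj_eq hF (g := z) (Subgroup.subset_closure (Or.inl rfl))
    have hz1 : z ≠ 1 := fun e => by
      have := walk_eq (w := [0]) (v := []) (by decide) (by simp)
        (by rw [evalW_nil]; exact congrArg Subtype.val e)
      rw [z_moved] at this
      exact absurd this (by simp [walkT])
    by_contra hc1
    have : c = z := by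
      obtain ⟨x, y, hxy, hu⟩ := Nat.card_eq_two_iff.mp (card_ker hF)
      have hcase : ∀ t : (proj hF).ker, t = x ∨ t = y := fun t => by
        have : t ∈ ({x, y} : Set (proj hF).ker) := hu ▸ Set.mem_univ t
        simpa using this
      rcases hcase ⟨z, hz⟩ with e | e <;> rcases hcase ⟨c, hck⟩ with e' | e' <;>
        rcases hcase 1 with e'' | e'' <;>
        first
          | exact congrArg Subtype.val (e'.trans e.symm)
          | exact absurd (congrArg Subtype.val (e.trans e''.symm)) hz1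
          | exact absurd (congrArg Subtype.val (e'.trans e''.symm)) hc1
    have h2 := walk_eq (w := comWord wordA wordB) (v := [0]) (by simpa using com_fix.1)
      (by decide) ((com_eval ha hb').symm.trans (congrArg Subtype.val this))
    rw [com_fix.2, z_moved] at h2
    exact absurd h2 (by norm_num)
  · intro e
    have h2 := walk_eq (w := comWord (twist wordA) (twist wordB)) (v := [])
      (by simpa using com_moved.1) (by simp)
      ((com_eval (twist_lt ha) (twist_lt hb')).symm.trans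
        ((congrArg Subtype.val e).trans (evalW_nil _).symm))
    rw [com_moved.2] at h2
    exact absurd h2 (by simp [walkT])

/-- The glued cover. -/
noncomputable abbrev glued : Subgroup (H × H) := H50.pull ((sP hF).comp (proj hF)) (proj hF)

/-- The map of the glued cover. -/
noncomputable def gluedHom : glued hF →* Cfsg.PSU 6 F 2 :=
  (proj hF).comp ((MonoidHom.fst H H).comp (glued hF).subtype)

/-- The kernel of the glued cover. -/
noncomputable def gluedKer : (gluedHom hF).ker ≃* (proj hF).ker × (proj hF).ker where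
  toFun a := (⟨a.1.1.1, a.2⟩, ⟨a.1.1.2, by
    rw [MonoidHom.mem_ker, ← H50.mem_pull.1 a.1.2, MonoidHom.comp_apply,
      show proj hF a.1.1.1 = 1 from a.2, map_one]⟩)
  invFun k := ⟨⟨(k.1, k.2), by
    rw [H50.mem_pull, MonoidHom.comp_apply, show proj hF k.1.1 = 1 from k.1.2, map_one,
      show proj hF k.2.1 = 1 from k.2.2]⟩, k.1.2⟩
  left_inv a := rfl
  right_inv k := rfl
  map_mul' a b := rfl

theorem psu_perfect : commutator (Cfsg.PSU 6 F 2) = ⊤ := by
  rw [← H74.Schur.map_commutator_of_surjective (proj hF) (proj_surj hF), perfect,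
    Subgroup.map_top_of_surjective _ (proj_surj hF)]

theorem glued_fst (x : H) : ∃ a : glued hF, a.1.1 = x :=
  ⟨⟨(x, (proj_surj hF (sP hF (proj hF x))).choose),
    ((proj_surj hF (sP hF (proj hF x))).choose_spec).symm⟩, rfl⟩

theorem glued_stem : Cfsg.IsStemExtension (gluedHom hF) := by
  refine ⟨fun p => ?_, fun a ha => ?_, fun a ha => ?_⟩
  · obtain ⟨x, rfl⟩ := proj_surj hF p
    obtain ⟨a, rfl⟩ := glued_fst hF x
    exact ⟨a, rfl⟩
  · have h := center_H hF
    have h1 : a.1.1 ∈ Subgroup.center H := h.symm ▸ (gluedKer hF ⟨a, ha⟩).1.2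
    have h2 : a.1.2 ∈ Subgroup.center H := h.symm ▸ (gluedKer hF ⟨a, ha⟩).2.2
    rw [Subgroup.mem_center_iff]
    exact fun b => Subtype.ext (Prod.ext (Subgroup.mem_center_iff.1 h1 b.1.1)
      (Subgroup.mem_center_iff.1 h2 b.1.2))
  obtain ⟨A, B, A', B', eA, eB, h1, h2⟩ := exists_pair hF
  let q : glued hF := ⁅(⟨(A, A'), eA⟩ : glued hF), (⟨(B, B'), eB⟩ : glued hF)⁆
  have hq : q ∈ commutator (glued hF) := by
    rw [commutator_def]
    exact Subgroup.commutator_mem_commutator (Subgroup.mem_top _) (Subgroup.mem_top _)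
  have hq1 : q.1.1 = 1 := h1
  have hq2 : q.1.2 = ⁅A', B'⁆ := rfl
  have hfst : Function.Surjective ((MonoidHom.fst H H).comp (glued hF).subtype) :=
    fun x => glued_fst hF x
  obtain ⟨b, hb', hba⟩ : a.1.1 ∈ (commutator (glued hF)).map
      ((MonoidHom.fst H H).comp (glued hF).subtype) := by
    rw [H74.Schur.map_commutator_of_surjective _ hfst, perfect]
    exact Subgroup.mem_top _
  have hba' : b.1.1 = a.1.1 := hba
  set t := b⁻¹ * a with ht
  have ht1 : t.1.1 = 1 := by
    show b.1.1⁻¹ * a.1.1 = 1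
    rw [hba', inv_mul_cancel]
  have htk : t.1.2 ∈ (proj hF).ker := by
    rw [MonoidHom.mem_ker, ← H50.mem_pull.1 t.2, ht1, map_one]
  have hqk : q.1.2 ∈ (proj hF).ker := by
    rw [MonoidHom.mem_ker, ← H50.mem_pull.1 q.2, hq1, map_one]
  suffices t ∈ commutator (glued hF) by
    rw [show a = b * t by rw [ht, mul_inv_cancel_left]]
    exact mul_mem hb' this
  obtain ⟨x, y, hxy, hu⟩ := Nat.card_eq_two_iff.mp (card_ker hF)
  have hcase : ∀ t : (proj hF).ker, t = x ∨ t = y := fun t => by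
    have : t ∈ ({x, y} : Set (proj hF).ker) := hu ▸ Set.mem_univ t
    simpa using this
  have : t = 1 ∨ t = q := by
    rcases hcase ⟨_, htk⟩ with e | e <;> rcases hcase ⟨_, hqk⟩ with e' | e' <;>
      rcases hcase 1 with e'' | e'' <;>
      first
        | exact Or.inl (Subtype.ext (Prod.ext ht1 (congrArg Subtype.val (e.trans e''.symm))))
        | exact Or.inr (Subtype.ext (Prod.ext (ht1.trans hq1.symm)
            (congrArg Subtype.val (e.trans e'.symm))))
        | exact absurd (congrArg Subtype.val (e'.trans e''.symm)) (fun h => h2 (hq2.symm.trans h))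
  rcases this with e | e <;> rw [e]
  · exact one_mem _
  · exact hq

omit [Fintype F] hF in
/-- Stem extensions with kernels of coprime order combine. -/
theorem combine {Γ₁ Γ₂ Q : Type} [Group Γ₁] [Group Γ₂] [Group Q] [Finite Γ₁] [Finite Γ₂]
    {σ₁ : Γ₁ →* Q} {σ₂ : Γ₂ →* Q} (h₁ : IsStemExtension σ₁) (h₂ : IsStemExtension σ₂)
    (hco : Nat.Coprime (Nat.card σ₁.ker) (Nat.card σ₂.ker)) :
    ∃ (P : Type) (_ : Group P) (_ : Finite P) (σ : P →* Q), IsStemExtension σ ∧
      Nonempty (σ.ker ≃* σ₁.ker × σ₂.ker) := by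
  let σ : H50.pull σ₁ σ₂ →* Q := σ₁.comp ((MonoidHom.fst Γ₁ Γ₂).comp (H50.pull σ₁ σ₂).subtype)
  let e : σ.ker ≃* σ₁.ker × σ₂.ker :=
    { toFun := fun a => (⟨a.1.1.1, a.2⟩, ⟨a.1.1.2, by
        rw [MonoidHom.mem_ker, ← H50.mem_pull.1 a.1.2]; exact a.2⟩)
      invFun := fun k => ⟨⟨(k.1.1, k.2.1), by
        rw [H50.mem_pull, MonoidHom.mem_ker.1 k.1.2, MonoidHom.mem_ker.1 k.2.2]⟩, k.1.2⟩
      left_inv := fun a => rfl
      right_inv := fun k => rfl
      map_mul' := fun a b => rfl }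
  have hf : Function.Surjective ((MonoidHom.fst Γ₁ Γ₂).comp (H50.pull σ₁ σ₂).subtype) := fun g =>
    ⟨⟨(g, (h₂.1 (σ₁ g)).choose), ((h₂.1 (σ₁ g)).choose_spec).symm⟩, rfl⟩
  have hs : Function.Surjective ((MonoidHom.snd Γ₁ Γ₂).comp (H50.pull σ₁ σ₂).subtype) := fun g =>
    ⟨⟨((h₁.1 (σ₂ g)).choose, g), (h₁.1 (σ₂ g)).choose_spec⟩, rfl⟩
  refine ⟨H50.pull σ₁ σ₂, inferInstance, inferInstance, σ, ⟨h₁.1.comp hf, ?_, ?_⟩, ⟨e⟩⟩
  · intro a ha
    rw [Subgroup.mem_center_iff]
    intro b
    exact Subtype.ext (Prod.ext (Subgroup.mem_center_iff.1 (h₁.2.1 (e ⟨a, ha⟩).1.2) b.1.1)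
      (Subgroup.mem_center_iff.1 (h₂.2.1 (e ⟨a, ha⟩).2.2) b.1.2))
  let C := (commutator (H50.pull σ₁ σ₂)).subgroupOf σ.ker
  suffices C = ⊤ by rwa [Subgroup.subgroupOf_eq_top] at this
  apply Subgroup.eq_top_of_card_eq
  refine Nat.dvd_antisymm (Subgroup.card_subgroup_dvd_card C) ?_
  rw [Nat.card_congr e.toEquiv, Nat.card_prod]
  refine hco.mul_dvd_of_dvd_of_dvd ?_ ?_
  · refine Subgroup.card_dvd_of_surjective
      (((MonoidHom.fst σ₁.ker σ₂.ker).comp e.toMonoidHom).comp C.subtype) fun k => ?_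
    obtain ⟨a, ha, hak⟩ : (k : Γ₁) ∈ (commutator (H50.pull σ₁ σ₂)).map
        ((MonoidHom.fst Γ₁ Γ₂).comp (H50.pull σ₁ σ₂).subtype) :=
      (H74.Schur.map_commutator_of_surjective _ hf).symm ▸ h₁.2.2 k.2
    have hak' : a.1.1 = k.1 := hak
    have : a ∈ σ.ker := by
      rw [MonoidHom.mem_ker]; show σ₁ a.1.1 = 1
      rw [hak']; exact k.2
    exact ⟨⟨⟨a, this⟩, ha⟩, Subtype.ext hak'⟩
  · refine Subgroup.card_dvd_of_surjective
      (((MonoidHom.snd σ₁.ker σ₂.ker).comp e.toMonoidHom).comp C.subtype) fun k => ?_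
    obtain ⟨a, ha, hak⟩ : (k : Γ₂) ∈ (commutator (H50.pull σ₁ σ₂)).map
        ((MonoidHom.snd Γ₁ Γ₂).comp (H50.pull σ₁ σ₂).subtype) :=
      (H74.Schur.map_commutator_of_surjective _ hs).symm ▸ h₂.2.2 k.2
    have hak' : a.1.2 = k.1 := hak
    have : a ∈ σ.ker := by
      rw [MonoidHom.mem_ker]; show σ₁ a.1.1 = 1
      rw [H50.mem_pull.1 a.2, hak']; exact k.2
    exact ⟨⟨⟨a, this⟩, ha⟩, Subtype.ext hak'⟩

theorem su_stem : Cfsg.IsStemExtension (QuotientGroup.mk' (Subgroup.center ↥(Cfsg.SU 6 F 2))) := by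
  refine ⟨QuotientGroup.mk'_surjective _, (QuotientGroup.ker_mk' _).le, ?_⟩
  rw [Unitary.commutator_eq_top (q := 2) (hF.trans (by norm_num)) (Or.inl (by norm_num))]
  exact le_top

/-- The witness. -/
theorem exists_witness : ∃ (Γ : Type) (_ : Group Γ) (_ : Finite Γ) (σ : Γ →* Cfsg.PSU 6 F 2),
    Cfsg.IsStemExtension σ ∧ Nonempty (σ.ker ≃* Multiplicative (ZMod 3 × ZMod 2 × ZMod 2)) := by
  have : Finite H := Nat.finite_of_card_ne_zero (by rw [card_H]; norm_num)
  have : Fact (Nat.Prime 2) := ⟨Nat.prime_two⟩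
  have : Fact (Nat.Prime 3) := ⟨Nat.prime_three⟩
  have c3 : Nat.card (QuotientGroup.mk' (Subgroup.center ↥(Cfsg.SU 6 F 2))).ker = 3 := by
    rw [QuotientGroup.ker_mk', Unitary.card_center_SU (q := 2) (hF.trans (by norm_num)) (by norm_num)]
    rfl
  obtain ⟨P, i1, i2, σ, hσ, ⟨e⟩⟩ := combine (su_stem hF) (glued_stem hF) (by
    rw [c3, Nat.card_congr (gluedKer hF).toEquiv, Nat.card_prod, card_ker hF]; norm_num)
  refine ⟨P, i1, i2, σ, hσ, ⟨e.trans ?_⟩⟩
  let e3 : (QuotientGroup.mk' (Subgroup.center ↥(Cfsg.SU 6 F 2))).ker ≃* Multiplicative (ZMod 3) :=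
    mulEquivOfPrimeCardEq c3 (by simp)
  let e2 : (proj hF).ker ≃* Multiplicative (ZMod 2) :=
    mulEquivOfPrimeCardEq (card_ker hF) (by simp)
  exact (e3.prodCongr ((gluedKer hF).trans (e2.prodCongr e2))).trans
    ((((MulEquiv.refl (Multiplicative (ZMod 3))).prodCongr
      (MulEquiv.prodMultiplicative (ZMod 2) (ZMod 2)).symm)).trans
        (MulEquiv.prodMultiplicative (ZMod 3) (ZMod 2 × ZMod 2)).symm)

end Cfsg.Agent.H27.U6Mult
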